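import Groth.Agent.SBAut.Split
import Mathlib.RingTheory.Finiteness.Projective

/-!
# Left ideals attached to vectors with a unit entry over arbitrary algebras over a splitting field
-/

universe u

open Matrix
open scoped TensorProduct

noncomputable section

set_option linter.style.haveILetI false
set_option linter.unusedSimpArgs false

namespace Groth.Agent.SBSplit

open Groth.Agent.SBAut

variable {k : Type u} [Field k] {A : Type u} [Ring A] [Algebra k A] {K : Type u} [Field K] [Algebra k K]
  {n : ℕ} (Φ : K ⊗[k] A ≃ₐ[K] Matrix (Fin n) (Fin n) K) (hA : Module.finrank k A = n * n) (hn : 0 < n)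
  {R : Type u} [CommRing R] [Algebra k R] [Algebra K R] [IsScalarTower k K R]

/-- The defect of a matrix from having all rows proportional to `v`. -/
def defect (v : Fin n → R) (i : Fin n) (u : R) :
    Matrix (Fin n) (Fin n) R →ₗ[R] (Fin n × {j : Fin n // j ≠ i} → R) where
  toFun M p := M p.1 p.2 - M p.1 i * u * v p.2
  map_add' M N := by funext p; simp; ring
  map_smul' c M := by funext p; simp; ring

omit [Algebra K R] [IsScalarTower k K R] [Algebra k R] in
theorem ker_defect {v : Fin n → R} {i : Fin n} {u : R} (hu : u * v i = 1) :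
    LinearMap.ker (defect v i u) = rowIdeal v := by
  ext M
  rw [LinearMap.mem_ker, mem_rowIdeal]
  constructor
  · intro h a
    refine rel_of_smul_eq (c := M a i * u) ?_
    funext j
    by_cases hj : j = i
    · subst hj
      rw [Pi.smul_apply, smul_eq_mul, mul_assoc, hu, mul_one]
    · exact sub_eq_zero.mp (congrFun h (a, ⟨j, hj⟩))
  · intro h
    funext p
    show M p.1 p.2 - M p.1 i * u * v p.2 = 0
    rw [mul_assoc, mul_comm u, ← mul_assoc, h p.1 i p.2]
    linear_combination -(M p.1 p.2) * hu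

omit [Algebra K R] [IsScalarTower k K R] [Algebra k R] in
theorem defect_surjective {v : Fin n → R} {i : Fin n} {u : R} : Function.Surjective (defect v i u) := by
  intro z
  refine ⟨Matrix.of fun a j => if h : j = i then 0 else z (a, ⟨j, h⟩), funext fun p => ?_⟩
  obtain ⟨a, j, hj⟩ := p
  simp [defect, hj]

/-- The point of a vector with a unit entry. -/
def vecPtG (v : Fin n → R) (i : Fin n) (hv : IsUnit (v i)) : BrSev.SBSet k A (n * n - n) R :=
  let e : R ⊗[k] A ≃ₗ[R] Matrix (Fin n) (Fin n) R := (split Φ R hA hn).toLinearEquiv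
  have hmap : ((rowIdeal v).comap (e : R ⊗[k] A →ₗ[R] Matrix (Fin n) (Fin n) R)).map
      (e : R ⊗[k] A →ₗ[R] Matrix (Fin n) (Fin n) R) = rowIdeal v :=
    Submodule.map_comap_eq_of_surjective e.surjective _
  let E : ((R ⊗[k] A) ⧸ (rowIdeal v).comap (e : R ⊗[k] A →ₗ[R] Matrix (Fin n) (Fin n) R)) ≃ₗ[R]
      (Fin n × {j : Fin n // j ≠ i} → R) :=
    (Submodule.Quotient.equiv _ _ e hmap).trans
      ((Submodule.quotEquivOfEq _ _ (ker_defect (u := ((hv.unit⁻¹ : Rˣ) : R)) (IsUnit.val_inv_mul hv)).symm).trans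
        ((defect v i ((hv.unit⁻¹ : Rˣ) : R)).quotKerEquivOfSurjective defect_surjective))
  ⟨{ toSubmodule := (rowIdeal v).comap (e : R ⊗[k] A →ₗ[R] Matrix (Fin n) (Fin n) R)
     finite_quotient := Module.Finite.equiv E.symm
     projective_quotient := Module.Projective.of_equiv E.symm
     rankAtStalk_eq := fun q => by
      haveI : Nontrivial R := ⟨0, 1, fun h => q.isPrime.ne_top ((Ideal.eq_top_iff_one _).mpr (h ▸ q.asIdeal.zero_mem))⟩
      rw [Module.rankAtStalk_eq_of_equiv E, Module.rankAtStalk_eq_finrank_of_free]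
      simp [Module.finrank_pi, Fintype.card_prod, Nat.mul_sub, mul_one] }, by
    intro a x hx
    show split Φ R hA hn (a * x) ∈ rowIdeal v
    rw [map_mul]
    exact mul_mem_rowIdeal _ hx⟩

theorem mem_vecPtG {v : Fin n → R} {i : Fin n} (hv : IsUnit (v i)) (x : R ⊗[k] A) :
    x ∈ (vecPtG Φ hA hn v i hv).1.toSubmodule ↔ splitHom Φ R x ∈ rowIdeal v := Iff.rfl

theorem vecPtG_eq_vecPt [IsLocalRing R] {v : Fin n → R} {i : Fin n} (hv : IsUnit (v i)) :
    vecPtG Φ hA hn v i hv = vecPt Φ hA hn v (isUni_of_isUnit hv) :=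
  sbSet_ext rfl

theorem vecPtG_eq_iff {v v' : Fin n → R} {i j : Fin n} (hv : IsUnit (v i)) (hv' : IsUnit (v' j)) :
    vecPtG Φ hA hn v i hv = vecPtG Φ hA hn v' j hv' ↔ Rel v v' := by
  rw [← rowIdeal_eq_iff (isUni_of_isUnit hv) (isUni_of_isUnit hv')]
  refine ⟨fun h => ?_, fun h => sbSet_ext ?_⟩
  · ext M
    obtain ⟨x, rfl⟩ := (splitHom_bijective Φ R hA hn).2 M
    rw [← mem_vecPtG Φ hA hn hv, ← mem_vecPtG Φ hA hn hv', h]
  · ext x
    rw [mem_vecPtG, mem_vecPtG, h]

theorem sbMap_vecPtG {S : Type u} [CommRing S] [Algebra k S] [Algebra K S] [IsScalarTower k K S]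
    (φ : R →ₐ[K] S) {v : Fin n → R} {i : Fin n} (hv : IsUnit (v i)) :
    sbMap (φ.restrictScalars k) (vecPtG Φ hA hn v i hv) = vecPtG Φ hA hn (φ ∘ v) i (hv.map φ) := by
  classical
  refine sbSet_ext ?_
  show (Module.Grassmannian.map (φ.restrictScalars k) _).toSubmodule = _
  rw [map_toSubmodule_span]
  refine le_antisymm (Submodule.span_le.mpr ?_) fun z hz => ?_
  · rintro _ ⟨x, hx, rfl⟩
    rw [SetLike.mem_coe, mem_vecPtG, splitHom_bc_map]
    exact fun a => ((mem_vecPtG Φ hA hn hv x).mp hx a).map φ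
  · rw [mem_vecPtG] at hz
    choose x hx using fun a : Fin n => (splitHom_bijective Φ R hA hn).2 (Matrix.vecMulVec (Pi.single a 1) v)
    obtain ⟨u, hu⟩ := hv.map φ
    have hxm : ∀ a, bc (φ.restrictScalars k) (x a) ∈ Submodule.span S
        (bc (A := A) (φ.restrictScalars k) '' ((vecPtG Φ hA hn v i hv).1.toSubmodule : Set (R ⊗[k] A))) := fun a =>
      Submodule.subset_span ⟨x a, (mem_vecPtG Φ hA hn hv (x a)).mpr (by
        rw [hx]; intro b; exact rel_of_smul_eq (R := R) (c := (Pi.single a 1 : Fin n → R) b) (funext fun j => by simp [Matrix.vecMulVec_apply])), rfl⟩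
    have e : z = ∑ a, ((splitHom Φ S z) a i * ((u⁻¹ : Sˣ) : S)) • bc (φ.restrictScalars k) (x a) := by
      apply (splitHom_bijective Φ S hA hn).1
      rw [map_sum]
      simp only [map_smul, splitHom_bc_map, hx]
      refine Matrix.ext fun a j => ?_
      rw [Matrix.sum_apply, Finset.sum_eq_single a (fun b _ hb => by simp [Matrix.vecMulVec_apply, Ne.symm hb])
        (by simp)]
      have h := hz a j i
      simp only [Function.comp_apply] at h
      simp only [Matrix.smul_apply, Matrix.map_apply, Matrix.vecMulVec_apply, Pi.single_eq_same, one_mul,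
        smul_eq_mul]
      rw [mul_comm ((splitHom Φ S z) a i), mul_assoc, ← h, ← hu]
      rw [mul_comm ((splitHom Φ S z) a j), ← mul_assoc, Units.inv_mul, one_mul]
    rw [e]
    exact Submodule.sum_mem _ fun a _ => Submodule.smul_mem _ _ (hxm a)

omit [Algebra K R] [IsScalarTower k K R] in
/-- Comparable points are equal. -/
theorem sbSet_eq_of_le {c : ℕ} {N N' : BrSev.SBSet k A c R} (h : N.1.toSubmodule ≤ N'.1.toSubmodule) :
    N = N' := by
  haveI := N.1.finite_quotient
  haveI := N'.1.finite_quotient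
  haveI := N.1.projective_quotient
  haveI := N'.1.projective_quotient
  let q : (R ⊗[k] A ⧸ N.1.toSubmodule) →ₗ[R] (R ⊗[k] A ⧸ N'.1.toSubmodule) :=
    Submodule.mapQ _ _ LinearMap.id (by simpa using h)
  have hs : Function.Surjective q := fun y => by
    obtain ⟨y, rfl⟩ := Submodule.mkQ_surjective _ y
    exact ⟨Submodule.Quotient.mk y, rfl⟩
  obtain ⟨s, hs'⟩ := Module.projective_lifting_property q LinearMap.id hs
  have hs2 : ∀ y, q (s y) = y := LinearMap.congr_fun hs'
  let r : (R ⊗[k] A ⧸ N.1.toSubmodule) →ₗ[R] LinearMap.ker q :=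
    (LinearMap.id - s.comp q).codRestrict _ fun x => by simp [hs2]
  have hr : ∀ l : LinearMap.ker q, r l = l := fun l => Subtype.ext (by simp [r, LinearMap.mem_ker.mp l.2])
  let E : (R ⊗[k] A ⧸ N.1.toSubmodule) ≃ₗ[R] LinearMap.ker q × (R ⊗[k] A ⧸ N'.1.toSubmodule) :=
    { toFun := fun x => (r x, q x)
      map_add' := fun x y => by simp
      map_smul' := fun c x => by simp
      invFun := fun z => (z.1 : R ⊗[k] A ⧸ N.1.toSubmodule) + s z.2
      left_inv := fun x => by simp [r]
      right_inv := fun z => by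
        have := LinearMap.mem_ker.mp z.1.2
        refine Prod.ext (Subtype.ext ?_) ?_
        · simp [r, hs2, this]
        · simp [hs2, this] }
  haveI : Module.Finite R (LinearMap.ker q) := Module.Finite.of_surjective r fun l => ⟨l, hr l⟩
  haveI : Module.Projective R (LinearMap.ker q) :=
    Module.Projective.of_split (LinearMap.ker q).subtype r (LinearMap.ext hr)
  have hz : Module.rankAtStalk (R := R) (LinearMap.ker q) = 0 := by
    funext p
    have h1 := congrFun (Module.rankAtStalk_eq_of_equiv E) p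
    rw [Module.rankAtStalk_prod, Pi.add_apply, N.1.rankAtStalk_eq, N'.1.rankAtStalk_eq] at h1
    simp only [Pi.zero_apply]
    omega
  have : Subsingleton (LinearMap.ker q) := Module.rankAtStalk_eq_zero_iff_subsingleton.mp hz
  refine sbSet_ext (le_antisymm h fun x hx => ?_)
  have : Submodule.Quotient.mk (p := N.1.toSubmodule) x ∈ LinearMap.ker q := by
    rw [LinearMap.mem_ker]; exact (Submodule.Quotient.mk_eq_zero _).mpr hx
  exact (Submodule.Quotient.mk_eq_zero _).mp (congrArg Subtype.val
    (Subsingleton.elim (⟨_, this⟩ : LinearMap.ker q) 0))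

/-- A point is generated by finitely many elements. -/
theorem sbSet_fg [Module.Finite k A] {c : ℕ} (N : BrSev.SBSet k A c R) : N.1.toSubmodule.FG := by
  haveI := N.1.projective_quotient
  obtain ⟨s, hs⟩ := Module.projective_lifting_property N.1.toSubmodule.mkQ LinearMap.id (Submodule.mkQ_surjective _)
  have hs' : ∀ y, N.1.toSubmodule.mkQ (s y) = y := LinearMap.congr_fun hs
  have e : N.1.toSubmodule = LinearMap.range (LinearMap.id - s.comp N.1.toSubmodule.mkQ) := by
    ext x
    constructor
    · intro hx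
      exact ⟨x, by simp [(Submodule.Quotient.mk_eq_zero _).mpr hx]⟩
    · rintro ⟨y, rfl⟩
      refine (Submodule.Quotient.mk_eq_zero _).mp ?_
      show N.1.toSubmodule.mkQ (y - s (N.1.toSubmodule.mkQ y)) = 0
      rw [map_sub, hs', sub_self]
  rw [e]
  rw [LinearMap.range_eq_map]
  exact Submodule.FG.map _ Module.Finite.fg_top

end Groth.Agent.SBSplit
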