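import Groth.Agent.SBSplit.Chart
import Groth.Agent.SBSplit.GenVec
import Groth.Agent.SBAut.Main
import Groth.Prelude.Def_BrSev

/-!
# A split Severi–Brauer scheme is a projective space
-/

universe u

open CategoryTheory CategoryTheory.Limits AlgebraicGeometry Matrix
open scoped TensorProduct

noncomputable section

set_option linter.style.haveILetI false

namespace Groth.Agent.SBSplit

open Groth.Agent.SBAut

variable {k : Type u} [Field k] {A : Type u} [Ring A] [Algebra k A] {K : Type u} [Field K] [Algebra k K]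
  {m : ℕ} (Φ : K ⊗[k] A ≃ₐ[K] Matrix (Fin (m + 1)) (Fin (m + 1)) K)
  (hA : Module.finrank k A = (m + 1) * (m + 1))
  {X : Scheme.{u}} {f : X ⟶ Spec (CommRingCat.of k)}
  (s : BrSev.SBStr k A ((m + 1) * (m + 1) - (m + 1)) f)

theorem algebraMap_comp_specMap (R : Type u) [CommRing R] [Algebra k R] [Algebra K R] [IsScalarTower k K R] :
    Spec.map (CommRingCat.ofHom (algebraMap K R)) ≫ Spec.map (CommRingCat.ofHom (algebraMap k K)) =
      Spec.map (CommRingCat.ofHom (algebraMap k R)) := by
  rw [← Spec.map_comp, ← CommRingCat.ofHom_comp, ← IsScalarTower.algebraMap_eq]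

section Pt

variable {R : Type u} [CommRing R] [Algebra k R] [Algebra K R] [IsScalarTower k K R]

/-- The point of the base change given by a vector with a unit entry. -/
def toXK (v : Fin (m + 1) → R) (i : Fin (m + 1)) (hu : IsUnit (v i)) :
    Spec (CommRingCat.of R) ⟶ BrSev.bc f K :=
  pullback.lift ((s.bij R).symm (vecPtG Φ hA m.succ_pos v i hu)).1 (Spec.map (CommRingCat.ofHom (algebraMap K R)))
    (by rw [((s.bij R).symm _).2, algebraMap_comp_specMap])

theorem comp_toXK {S : Type u} [CommRing S] [Algebra k S] [Algebra K S] [IsScalarTower k K S]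
    (φ : R →ₐ[K] S) (v : Fin (m + 1) → R) (i : Fin (m + 1)) (hu : IsUnit (v i)) :
    Spec.map (CommRingCat.ofHom (φ : R →+* S)) ≫ toXK Φ hA s v i hu = toXK Φ hA s (φ ∘ v) i (hu.map φ) := by
  apply pullback.hom_ext
  · rw [Category.assoc, toXK, toXK, pullback.lift_fst, pullback.lift_fst, ← sbMap_vecPtG Φ hA m.succ_pos φ hu,
      bij_symm_map]
    rfl
  · rw [Category.assoc, toXK, toXK, pullback.lift_snd, pullback.lift_snd, ← Spec.map_comp, ← CommRingCat.ofHom_comp,
      AlgHom.comp_algebraMap]

theorem toXK_congr {v v' : Fin (m + 1) → R} {i j : Fin (m + 1)} (hu : IsUnit (v i)) (hu' : IsUnit (v' j))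
    (h : Rel v v') : toXK Φ hA s v i hu = toXK Φ hA s v' j hu' := by
  simp only [toXK, (vecPtG_eq_iff Φ hA m.succ_pos hu hu').mpr h]

theorem rel_of_toXK_eq {v v' : Fin (m + 1) → R} {i j : Fin (m + 1)} (hu : IsUnit (v i)) (hu' : IsUnit (v' j))
    (h : toXK Φ hA s v i hu = toXK Φ hA s v' j hu') : Rel v v' := by
  have h1 := congrArg (fun z => z ≫ pullback.fst _ _) h
  simp only [toXK, pullback.lift_fst] at h1
  exact (vecPtG_eq_iff Φ hA m.succ_pos hu hu').mp ((s.bij R).symm.injective (Subtype.ext h1))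

omit [Algebra k R] [IsScalarTower k K R] in
theorem rel_of_pt_eq {v v' : Fin (m + 1) → R} {i j : Fin (m + 1)} (hi : IsUnit (v i))
    (hj : IsUnit (v' j)) (h : pt K v i hi = pt K v' j hj) : Rel v v' := by
  let e := Proj.pullbackAwayιIso (CohB1.polyGrading m K) (X_mem i) one_pos (X_mem j) one_pos
    (rfl : MvPolynomial.X i * MvPolynomial.X j = MvPolynomial.X i * MvPolynomial.X j)
  have h' : Spec.map (CommRingCat.ofHom (vecHom K v i hi)) ≫ Proj.awayι (CohB1.polyGrading m K) (MvPolynomial.X i)
      (X_mem i) one_pos = Spec.map (CommRingCat.ofHom (vecHom K v' j hj)) ≫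
        Proj.awayι (CohB1.polyGrading m K) (MvPolynomial.X j) (X_mem j) one_pos := h
  let r := pullback.lift (Spec.map (CommRingCat.ofHom (vecHom K v i hi)))
    (Spec.map (CommRingCat.ofHom (vecHom K v' j hj))) h' ≫ e.hom
  obtain ⟨ψ, hψ⟩ := Spec.map_surjective r
  have h1 : vecHom K v i hi = ψ.hom.comp (HomogeneousLocalization.awayMap (CohB1.polyGrading m K) (X_mem j) rfl) := by
    refine congrArg CommRingCat.Hom.hom (Spec.map_injective (a₁ := CommRingCat.ofHom (vecHom K v i hi))
      (a₂ := CommRingCat.ofHom (HomogeneousLocalization.awayMap (CohB1.polyGrading m K) (X_mem j) rfl) ≫ ψ) ?_)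
    rw [Spec.map_comp, hψ]
    show _ = (pullback.lift _ _ h' ≫ e.hom) ≫ _
    rw [Category.assoc, Proj.pullbackAwayιIso_hom_SpecMap_awayMap_left, pullback.lift_fst]
  have h2 : vecHom K v' j hj =
      ψ.hom.comp (HomogeneousLocalization.awayMap (CohB1.polyGrading m K) (X_mem i) (mul_comm _ _)) := by
    refine congrArg CommRingCat.Hom.hom (Spec.map_injective (a₁ := CommRingCat.ofHom (vecHom K v' j hj))
      (a₂ := CommRingCat.ofHom (HomogeneousLocalization.awayMap (CohB1.polyGrading m K) (X_mem i) (mul_comm _ _)) ≫ ψ) ?_)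
    rw [Spec.map_comp, hψ]
    show _ = (pullback.lift _ _ h' ≫ e.hom) ≫ _
    rw [Category.assoc, Proj.pullbackAwayιIso_hom_SpecMap_awayMap_right, pullback.lift_snd]
  intro a b
  have key : ∀ c d, vecHom K v i hi (coord i c) * vecHom K v' j hj (coord j d) =
      vecHom K v i hi (coord i d) * vecHom K v' j hj (coord j c) := by
    intro c d
    rw [h1, h2]
    simp only [RingHom.comp_apply, ← map_mul]
    congr 1
    apply HomogeneousLocalization.val_injective
    simp only [HomogeneousLocalization.val_mul, coord]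
    erw [HomogeneousLocalization.val_awayMap_mk, HomogeneousLocalization.val_awayMap_mk,
      HomogeneousLocalization.val_awayMap_mk, HomogeneousLocalization.val_awayMap_mk]
    rw [Localization.mk_mul, Localization.mk_mul]
    congr 1
    ring
  rw [← vecHom_coord (K := K) v i hi a, ← vecHom_coord (K := K) v i hi b, ← vecHom_coord (K := K) v' j hj a,
    ← vecHom_coord (K := K) v' j hj b]
  linear_combination (v i * v' j) * key a b

end Pt

variable (K m) in
/-- The ring of a chart. -/
def Chart (i : Fin (m + 1)) : Type u :=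
  HomogeneousLocalization.Away (CohB1.polyGrading m K) (MvPolynomial.X i)

instance (i : Fin (m + 1)) : CommRing (Chart K m i) :=
  inferInstanceAs (CommRing (HomogeneousLocalization.Away (CohB1.polyGrading m K) (MvPolynomial.X i)))

instance (i : Fin (m + 1)) : Algebra K (Chart K m i) := (constHom i).toAlgebra

instance (i : Fin (m + 1)) : Algebra k (Chart K m i) := ((constHom i).comp (algebraMap k K)).toAlgebra

instance (i : Fin (m + 1)) : IsScalarTower k K (Chart K m i) := IsScalarTower.of_algebraMap_eq' rfl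

variable (K) in
/-- The coordinates on a chart. -/
def cvec (i : Fin (m + 1)) : Fin (m + 1) → Chart K m i := coord i

theorem coord_self (i : Fin (m + 1)) : coord (K := K) i i = 1 := by
  apply HomogeneousLocalization.val_injective
  rw [coord, HomogeneousLocalization.Away.val_mk, HomogeneousLocalization.val_one, Localization.mk_eq_mk']
  simp

theorem isUnit_cvec (i : Fin (m + 1)) : IsUnit (cvec K i i) := by
  show IsUnit (M := HomogeneousLocalization.Away (CohB1.polyGrading m K) (MvPolynomial.X i)) (coord i i)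
  simp [coord_self]

/-- The map on a chart. -/
def chartMap (i : Fin (m + 1)) : Spec (CommRingCat.of (Chart K m i)) ⟶ BrSev.bc f K :=
  toXK Φ hA s (cvec K i) i (isUnit_cvec i)

theorem pt_chart {R : Type u} [CommRing R] [Algebra k R] [Algebra K R] [IsScalarTower k K R]
    (v : Fin (m + 1) → R) (i : Fin (m + 1)) (hu : IsUnit (v i)) :
    Spec.map (CommRingCat.ofHom (vecHom K v i hu : Chart K m i →+* R)) ≫ chartMap Φ hA s i = toXK Φ hA s v i hu := by
  let φ : Chart K m i →ₐ[K] R := ⟨(vecHom K v i hu : Chart K m i →+* R), fun c => vecHom_const v i hu c⟩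
  refine (comp_toXK Φ hA s φ (cvec K i) i (isUnit_cvec i)).trans (toXK_congr Φ hA s _ _ fun a b => ?_)
  show vecHom K v i hu (coord i a) * v b = vecHom K v i hu (coord i b) * v a
  rw [← vecHom_coord (K := K) v i hu a, ← vecHom_coord (K := K) v i hu b]
  ring

variable (K m) in
/-- The chart cover. -/
def chartCover : Scheme.OpenCover.{0} (CohB1.ProjSpace m K) :=
  Scheme.Cover.mkOfCovers (Fin (m + 1)) (fun i => Spec (CommRingCat.of (Chart K m i)))
    (fun i => Proj.awayι (CohB1.polyGrading m K) (MvPolynomial.X i) (X_mem i) one_pos)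
    (fun x => by
      obtain ⟨i, hi⟩ := exists_mem_basicOpen x
      rw [← Proj.opensRange_awayι (CohB1.polyGrading m K) _ (X_mem i) one_pos] at hi
      exact ⟨i, hi⟩)
    (fun i => inferInstanceAs (IsOpenImmersion (Proj.awayι (CohB1.polyGrading m K) (MvPolynomial.X i) (X_mem i) one_pos)))

/-- The comparison map. -/
theorem exists_hom : ∃ h : CohB1.ProjSpace m K ⟶ BrSev.bc f K,
    (∀ (R : Type u) [CommRing R] [Algebra k R] [Algebra K R] [IsScalarTower k K R]
      (v : Fin (m + 1) → R) (i : Fin (m + 1)) (hu : IsUnit (v i)), pt K v i hu ≫ h = toXK Φ hA s v i hu) ∧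
    h ≫ BrSev.bcTo f K = CohB1.ProjSpace.toSpec m K := by
  let g : ∀ i, (chartCover K m).X i ⟶ BrSev.bc f K := fun i => chartMap Φ hA s i
  have hg : ∀ a b : Fin (m + 1), pullback.fst ((chartCover K m).f a) ((chartCover K m).f b) ≫ g a =
      pullback.snd ((chartCover K m).f a) ((chartCover K m).f b) ≫ g b := by
    intro a b
    refine hom_ext_fromSpecStalk _ _ fun z => ?_
    let P := pullback ((chartCover K m).f a) ((chartCover K m).f b)
    let O : Type u := P.presheaf.stalk z
    obtain ⟨φ, hφ⟩ := Spec.map_surjective (R := CommRingCat.of (Chart K m a)) (S := CommRingCat.of O)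
      (P.fromSpecStalk z ≫ pullback.fst _ _)
    obtain ⟨ψ, hψ⟩ := Spec.map_surjective (R := CommRingCat.of (Chart K m b)) (S := CommRingCat.of O)
      (P.fromSpecStalk z ≫ pullback.snd _ _)
    letI : Algebra K O := (φ.hom.comp (algebraMap K (Chart K m a))).toAlgebra
    letI : Algebra k O := ((algebraMap K O).comp (algebraMap k K)).toAlgebra
    haveI : IsScalarTower k K O := IsScalarTower.of_algebraMap_eq' rfl
    have hψK : ψ.hom.comp (constHom b) = algebraMap K O := by
      have h1 : Spec.map φ ≫ (chartCover K m).f a ≫ CohB1.ProjSpace.toSpec m K =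
          Spec.map ψ ≫ (chartCover K m).f b ≫ CohB1.ProjSpace.toSpec m K := by
        rw [hφ, hψ]
        refine ((Category.assoc _ _ _).trans ?_).trans (Category.assoc _ _ _).symm
        exact congrArg (P.fromSpecStalk z ≫ ·) (pullback.condition_assoc _)
      have ea : (chartCover K m).f a ≫ CohB1.ProjSpace.toSpec m K =
          Spec.map (CommRingCat.ofHom (algebraMap K (Chart K m a))) := awayι_toSpec a
      have eb : (chartCover K m).f b ≫ CohB1.ProjSpace.toSpec m K =
          Spec.map (CommRingCat.ofHom (algebraMap K (Chart K m b))) := awayι_toSpec b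
      have h2 : Spec.map (CommRingCat.ofHom (algebraMap K (Chart K m a)) ≫ φ) =
          Spec.map (CommRingCat.ofHom (algebraMap K (Chart K m b)) ≫ ψ) := by
        refine (Spec.map_comp _ _).trans (Eq.trans ?_ (Spec.map_comp _ _).symm)
        exact (congrArg (Spec.map φ ≫ ·) ea).symm.trans (h1.trans (congrArg (Spec.map ψ ≫ ·) eb))
      exact (congrArg CommRingCat.Hom.hom (Spec.map_injective h2)).symm
    let v : Fin (m + 1) → O := fun l => φ.hom (cvec K a l)
    let v' : Fin (m + 1) → O := fun l => ψ.hom (cvec K b l)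
    have hva : v a = 1 := (congrArg φ.hom (coord_self a)).trans (map_one _)
    have hvb : v' b = 1 := (congrArg ψ.hom (coord_self b)).trans (map_one _)
    have hu : IsUnit (v a) := hva ▸ isUnit_one
    have hu' : IsUnit (v' b) := hvb ▸ isUnit_one
    have e1 : (vecHom K v a hu : Chart K m a →+* O) = φ.hom := by
      refine hom_ext (fun c => (vecHom_const v a hu c).trans rfl) fun l => ?_
      have := vecHom_coord (K := K) v a hu l
      rw [hva, mul_one] at this
      exact this
    have e2 : (vecHom K v' b hu' : Chart K m b →+* O) = ψ.hom := by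
      refine hom_ext (fun c => (vecHom_const v' b hu' c).trans (RingHom.congr_fun hψK c).symm) fun l => ?_
      have := vecHom_coord (K := K) v' b hu' l
      rw [hvb, mul_one] at this
      exact this
    have hpt : pt K v a hu = pt K v' b hu' := by
      show Spec.map (CommRingCat.ofHom (vecHom K v a hu : Chart K m a →+* O)) ≫ (chartCover K m).f a =
        Spec.map (CommRingCat.ofHom (vecHom K v' b hu' : Chart K m b →+* O)) ≫ (chartCover K m).f b
      rw [e1, e2]
      show Spec.map φ ≫ _ = Spec.map ψ ≫ _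
      rw [hφ, hψ]
      refine ((Category.assoc _ _ _).trans ?_).trans (Category.assoc _ _ _).symm
      exact congrArg (P.fromSpecStalk z ≫ ·) pullback.condition
    refine ((Category.assoc _ _ _).symm.trans ?_).trans (Category.assoc _ _ _)
    refine (congrArg (· ≫ g a) hφ).symm.trans (Eq.trans ?_ (congrArg (· ≫ g b) hψ))
    show Spec.map (CommRingCat.ofHom φ.hom) ≫ g a = Spec.map (CommRingCat.ofHom ψ.hom) ≫ g b
    rw [← e1, ← e2]
    exact (pt_chart Φ hA s v a hu).trans ((toXK_congr Φ hA s hu hu' (rel_of_pt_eq hu hu' hpt)).trans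
      (pt_chart Φ hA s v' b hu').symm)
  let h := (chartCover K m).glueMorphisms g hg
  have hh : ∀ i, (chartCover K m).f i ≫ h = g i := (chartCover K m).ι_glueMorphisms g hg
  refine ⟨h, fun R _ _ _ _ v i hu => ?_, ?_⟩
  · refine (Category.assoc _ _ _).trans ?_
    erw [hh i]
    exact pt_chart Φ hA s v i hu
  · refine (chartCover K m).hom_ext _ _ fun i => ?_
    rw [← Category.assoc, hh]
    refine Eq.trans ?_ (awayι_toSpec i).symm
    exact pullback.lift_snd _ _ _

set_option maxHeartbeats 1000000 in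
theorem exists_section (h : CohB1.ProjSpace m K ⟶ BrSev.bc f K)
    (hh : ∀ (R : Type u) [CommRing R] [Algebra k R] [Algebra K R] [IsScalarTower k K R]
      (v : Fin (m + 1) → R) (i : Fin (m + 1)) (hu : IsUnit (v i)), pt K v i hu ≫ h = toXK Φ hA s v i hu)
    [Module.Finite k A] (y : ↥(BrSev.bc f K)) :
    ∃ (U : Scheme.{u}) (j : U ⟶ BrSev.bc f K) (g : U ⟶ CohB1.ProjSpace m K),
      IsOpenImmersion j ∧ y ∈ Set.range j ∧ g ≫ h = j := by
  classical
  let 𝒰 := (BrSev.bc f K).affineCover
  obtain ⟨c, z, hz⟩ := 𝒰.exists_eq y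
  let R : Type u := Γ(𝒰.X c, ⊤)
  let j0 : Spec (CommRingCat.of R) ⟶ BrSev.bc f K := (𝒰.X c).isoSpec.inv ≫ 𝒰.f c
  have hy : y ∈ Set.range j0 := ⟨(𝒰.X c).isoSpec.hom z, by simp [j0, ← Scheme.Hom.comp_apply, hz]⟩
  obtain ⟨q, hq⟩ := hy
  letI : Algebra K R := (Spec.preimage (j0 ≫ BrSev.bcTo f K)).hom.toAlgebra
  letI : Algebra k R := ((algebraMap K R).comp (algebraMap k K)).toAlgebra
  haveI : IsScalarTower k K R := IsScalarTower.of_algebraMap_eq' rfl
  have hjK : j0 ≫ BrSev.bcTo f K = Spec.map (CommRingCat.ofHom (algebraMap K R)) := (Spec.map_preimage _).symm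
  let P : BrSev.Pts f R := ⟨j0 ≫ BrSev.proj f K, by
    rw [Category.assoc, pullback.condition, ← Category.assoc, hjK, algebraMap_comp_specMap]⟩
  let N := s.bij R P
  let p : Ideal R := q.asIdeal
  haveI : p.IsPrime := q.isPrime
  let Rp := Localization.AtPrime p
  let φp : R →ₐ[K] Rp := IsScalarTower.toAlgHom K R Rp
  obtain ⟨v, hv, hvN⟩ := exists_vecPt Φ hA m.succ_pos (sbMap (φp.restrictScalars k) N)
  obtain ⟨i, hi⟩ := hv.exists_isUnit
  -- a row with a unit entry at i
  obtain ⟨x, hxN, a, hxa⟩ : ∃ x ∈ N.1.toSubmodule, ∃ a, IsUnit (algebraMap R Rp (splitHom Φ R x a i)) := by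
    by_contra hne
    push Not at hne
    let T : Submodule Rp (Rp ⊗[k] A) :=
      { carrier := {z | ∀ a, splitHom Φ Rp z a i ∈ IsLocalRing.maximalIdeal Rp}
        add_mem' := fun hz hz' a => by simp only [map_add, Matrix.add_apply]; exact add_mem (hz a) (hz' a)
        zero_mem' := fun a => by simp
        smul_mem' := fun t z hz a => by
          simp only [map_smul, Matrix.smul_apply, smul_eq_mul]; exact Ideal.mul_mem_left _ _ (hz a) }
    have hle : (sbMap (φp.restrictScalars k) N).1.toSubmodule ≤ T := by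
      show (Module.Grassmannian.map _ _).toSubmodule ≤ T
      rw [map_toSubmodule_span, Submodule.span_le]
      rintro _ ⟨x, hx, rfl⟩ a
      rw [splitHom_bc_map]
      exact (IsLocalRing.mem_maximalIdeal _).mpr (hne x hx a)
    obtain ⟨z, hz⟩ := (splitHom_bijective Φ Rp hA m.succ_pos).2 (Matrix.of fun _ => v)
    have hmem : z ∈ (sbMap (φp.restrictScalars k) N).1.toSubmodule := by
      rw [← hvN, mem_vecPt, hz]; exact fun _ => Rel.refl v
    have := hle hmem 0
    rw [hz] at this
    exact (IsLocalRing.mem_maximalIdeal _).mp this hi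
  let w : Fin (m + 1) → R := splitHom Φ R x a
  have hwv : Rel (φp ∘ w) v := by
    have hmem : bc (A := A) (φp.restrictScalars k) x ∈ (sbMap (φp.restrictScalars k) N).1.toSubmodule :=
      mem_map_of_mem _ _ hxN
    rw [← hvN, mem_vecPt, splitHom_bc_map] at hmem
    exact hmem a
  -- the equations hold near q
  obtain ⟨G, hG⟩ := sbSet_fg N
  have hrel : ∀ z : ↥G × Fin (m + 1) × Fin (m + 1) × Fin (m + 1), ∃ t : p.primeCompl,
      (t : R) * (splitHom Φ R z.1.1 z.2.1 z.2.2.1 * w z.2.2.2) =
        (t : R) * (splitHom Φ R z.1.1 z.2.1 z.2.2.2 * w z.2.2.1) := by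
    intro z
    refine (IsLocalization.eq_iff_exists p.primeCompl Rp).mp ?_
    have hmem : bc (A := A) (φp.restrictScalars k) z.1.1 ∈ (sbMap (φp.restrictScalars k) N).1.toSubmodule :=
      mem_map_of_mem _ _ (hG ▸ Submodule.subset_span z.1.2)
    rw [← hvN, mem_vecPt, splitHom_bc_map] at hmem
    rw [map_mul, map_mul]
    exact (hmem z.2.1).trans hv hwv.symm z.2.2.1 z.2.2.2
  choose t ht using hrel
  let r : R := w i * ((∏ z, t z : p.primeCompl) : R)
  have hwi : w i ∉ p := (IsLocalization.AtPrime.isUnit_to_map_iff Rp p _).mp hxa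
  have hr : r ∉ p := fun hmem => (Ideal.IsPrime.mem_or_mem ‹p.IsPrime› hmem).elim hwi (∏ z, t z).2
  let S := Localization.Away r
  let φ : R →ₐ[K] S := IsScalarTower.toAlgHom K R S
  have hru : IsUnit (φ r) := IsLocalization.Away.algebraMap_isUnit r
  have hru2 : IsUnit (φ (w i)) ∧ IsUnit (φ ((∏ z, t z : p.primeCompl) : R)) := by
    rw [← IsUnit.mul_iff, ← map_mul]; exact hru
  have hwu : IsUnit ((φ ∘ w) i) := hru2.1
  have htu : ∀ z, IsUnit (φ (t z : R)) := fun z => by
    refine isUnit_of_dvd_unit (map_dvd φ ?_) hru2.2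
    exact map_dvd p.primeCompl.subtype (Finset.dvd_prod_of_mem t (Finset.mem_univ z))
  let L : (R ⊗[k] A) →ₗ[R] Matrix (Fin (m + 1)) (Fin (m + 1)) S :=
    { toFun := fun y => (splitHom Φ R y).map φ
      map_add' := fun y z => by ext b c; simp
      map_smul' := fun c y => by
        ext a b
        simp only [map_smul, Matrix.map_apply, Matrix.smul_apply, smul_eq_mul, map_mul, RingHom.id_apply]
        exact (Algebra.smul_def _ _).symm }
  have hgen : (G : Set (R ⊗[k] A)) ⊆ ((rowIdeal (φ ∘ w)).restrictScalars R).comap L := by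
    intro y hy b c d
    refine (htu (⟨y, hy⟩, b, c, d)).mul_left_cancel ?_
    show φ _ * (φ _ * φ _) = φ _ * (φ _ * φ _)
    rw [← map_mul, ← map_mul, ← map_mul, ← map_mul]
    exact congrArg φ (ht (⟨y, hy⟩, b, c, d))
  have hN : sbMap (φ.restrictScalars k) N = vecPtG Φ hA m.succ_pos (φ ∘ w) i hwu := by
    refine sbSet_eq_of_le ?_
    show (Module.Grassmannian.map _ _).toSubmodule ≤ _
    rw [map_toSubmodule_span, Submodule.span_le]
    rintro _ ⟨y, hy, rfl⟩
    rw [SetLike.mem_coe, mem_vecPtG, splitHom_bc_map]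
    rw [SetLike.mem_coe, ← hG] at hy
    exact Submodule.span_le.mpr hgen hy
  refine ⟨Spec (CommRingCat.of S), Spec.map (CommRingCat.ofHom (φ : R →+* S)) ≫ j0, pt K (φ ∘ w) i hwu, ?_, ?_, ?_⟩
  · haveI : IsOpenImmersion (Spec.map (CommRingCat.ofHom (φ : R →+* S))) :=
      IsOpenImmersion.of_isLocalization r
    infer_instance
  · refine ⟨?_, ?_⟩
    · exact ((PrimeSpectrum.localization_away_comap_range S r).symm ▸ (hr : q ∈ PrimeSpectrum.basicOpen r) :
        q ∈ Set.range (PrimeSpectrum.comap (algebraMap R S))).choose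
    · refine (Scheme.Hom.comp_apply _ _ _).trans (Eq.trans (congrArg j0 ?_) hq)
      exact ((PrimeSpectrum.localization_away_comap_range S r).symm ▸ (hr : q ∈ PrimeSpectrum.basicOpen r) :
        q ∈ Set.range (PrimeSpectrum.comap (algebraMap R S))).choose_spec
  · refine (hh S (φ ∘ w) i hwu).trans ?_
    apply pullback.hom_ext
    · simp only [toXK, pullback.lift_fst, Category.assoc]
      have h1 := congrArg (fun M => ((s.bij S).symm M).1) hN
      erw [bij_symm_map, Equiv.symm_apply_apply] at h1
      exact h1.symm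
    · simp only [toXK, pullback.lift_snd, Category.assoc]
      rw [show j0 ≫ pullback.snd _ _ = _ from hjK, ← Spec.map_comp, ← CommRingCat.ofHom_comp, AlgHom.comp_algebraMap]

include Φ hA s in
theorem nonempty_splitting [Module.Finite k A] : Nonempty (BrSev.Splitting f K m) := by
  obtain ⟨h, hh, hK⟩ := exists_hom Φ hA s
  have hinj : ∀ (Y : Scheme.{u}) (y : Y) (g g' : Spec (Y.presheaf.stalk y) ⟶ CohB1.ProjSpace m K),
      g ≫ h = g' ≫ h → g = g' := by
    intro Y y g g' e
    let O : Type u := Y.presheaf.stalk y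
    haveI : IsLocalRing O := inferInstanceAs (IsLocalRing (Y.presheaf.stalk y))
    let ρ : CommRingCat.of K ⟶ Y.presheaf.stalk y := Spec.preimage (g ≫ CohB1.ProjSpace.toSpec m K)
    letI algKO : Algebra K O := (ρ.hom : K →+* O).toAlgebra
    letI : Algebra k O := ((algebraMap K O).comp (algebraMap k K)).toAlgebra
    haveI : IsScalarTower k K O := IsScalarTower.of_algebraMap_eq' rfl
    have h1 : g ≫ CohB1.ProjSpace.toSpec m K = Spec.map (CommRingCat.ofHom (algebraMap K O)) :=
      (Spec.map_preimage _).symm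
    have h2 : g' ≫ CohB1.ProjSpace.toSpec m K = Spec.map (CommRingCat.ofHom (algebraMap K O)) := by
      rw [← h1, ← hK, ← Category.assoc, ← Category.assoc, e]
    obtain ⟨v, i, hu, hgv⟩ := @exists_pt K _ m O _ algKO _ g h1
    obtain ⟨v', j, hu', hgv'⟩ := @exists_pt K _ m O _ algKO _ g' h2
    rw [hgv, hgv'] at e ⊢
    refine pt_congr_rel hu hu' (rel_of_toXK_eq Φ hA s hu hu' ?_)
    rw [← hh O v i hu, ← hh O v' j hu']
    exact e
  haveI : Mono h := ⟨fun {Z} a b e => hom_ext_fromSpecStalk a b fun z => hinj Z z _ _ (by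
    rw [Category.assoc, Category.assoc, e])⟩
  choose U j g hj hy hg using exists_section Φ hA s h hh
  let 𝒱 : Scheme.OpenCover.{u} (BrSev.bc f K) :=
    Scheme.Cover.mkOfCovers (↥(BrSev.bc f K)) U j (fun y => ⟨y, (hy y).choose, (hy y).choose_spec⟩) hj
  let inv : BrSev.bc f K ⟶ CohB1.ProjSpace m K := 𝒱.glueMorphisms g fun a b => by
    refine (cancel_mono h).mp ((Category.assoc _ _ _).trans (Eq.trans ?_ (Category.assoc _ _ _).symm))
    erw [hg a, hg b]
    exact pullback.condition
  have hi : inv ≫ h = 𝟙 _ := 𝒱.hom_ext _ _ fun a => by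
    refine (Category.assoc _ _ _).symm.trans ?_
    erw [𝒱.ι_glueMorphisms]
    exact (hg a).trans (Category.comp_id _).symm
  have hi' : h ≫ inv = 𝟙 _ := by rw [← cancel_mono h, Category.assoc, hi, Category.comp_id, Category.id_comp]
  exact ⟨⟨⟨inv, h, hi, hi'⟩, by rw [← hK, ← Category.assoc, hi, Category.id_comp]⟩⟩

end Groth.Agent.SBSplit
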