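import Groth.Agent.ProjPt.Basic
import Groth.Agent.SBAut.Vectors
import Groth.Prelude.Def_CohB1

/-!
# Points of projective space over a ring given by vectors with a unit entry
-/

universe u

open CategoryTheory CategoryTheory.Limits AlgebraicGeometry HomogeneousLocalization

noncomputable section

namespace Groth.Agent.SBSplit

variable {K : Type u} [CommRing K] {m : ℕ}

local notation "𝒜" => CohB1.polyGrading m K

theorem X_mem (i : Fin (m + 1)) : (MvPolynomial.X i : MvPolynomial (Fin (m + 1)) K) ∈ 𝒜 1 :=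
  (MvPolynomial.mem_homogeneousSubmodule 1 _).mpr (MvPolynomial.isHomogeneous_X _ i)

/-- The coordinate ratio. -/
def coord (i j : Fin (m + 1)) : Away 𝒜 (MvPolynomial.X i) :=
  Away.mk 𝒜 (X_mem i) 1 (MvPolynomial.X j) (by rw [one_smul]; exact X_mem j)

/-- The constants of a chart. -/
def constHom (i : Fin (m + 1)) : K →+* Away 𝒜 (MvPolynomial.X i) :=
  (fromZeroRingHom 𝒜 (Submonoid.powers (MvPolynomial.X i))).comp (algebraMap K (𝒜 0))

section Vec

variable {B : Type u} [CommRing B] [Algebra K B]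

theorem eval_X (v : Fin (m + 1) → B) (i : Fin (m + 1)) (hu : IsUnit (v i)) :
    IsUnit ((MvPolynomial.eval₂Hom (algebraMap K B) v) (MvPolynomial.X i : MvPolynomial (Fin (m + 1)) K)) := by
  rw [MvPolynomial.eval₂Hom_X']; exact hu

variable (K) in
/-- The chart map of a vector with a unit entry. -/
def vecHom (v : Fin (m + 1) → B) (i : Fin (m + 1)) (hu : IsUnit (v i)) : Away 𝒜 (MvPolynomial.X i) →+* B :=
  ProjPt.coordHom 𝒜 (MvPolynomial.eval₂Hom (algebraMap K B) v) (eval_X (K := K) v i hu)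

theorem vecHom_coord (v : Fin (m + 1) → B) (i : Fin (m + 1)) (hu : IsUnit (v i)) (j : Fin (m + 1)) :
    vecHom K v i hu (coord i j) * v i = v j := by
  have := ProjPt.coordHom_mk_mul 𝒜 (MvPolynomial.eval₂Hom (algebraMap K B) v) (eval_X (K := K) v i hu) (X_mem i) 1
    (MvPolynomial.X j) (by rw [one_smul]; exact X_mem j)
  rw [pow_one, MvPolynomial.eval₂Hom_X', MvPolynomial.eval₂Hom_X'] at this
  exact this

theorem vecHom_const (v : Fin (m + 1) → B) (i : Fin (m + 1)) (hu : IsUnit (v i)) (c : K) :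
    vecHom K v i hu (constHom i c) = algebraMap K B c := by
  have h : constHom i c = Away.mk 𝒜 (X_mem i) 0 (MvPolynomial.C c)
      (by rw [zero_smul]; exact (MvPolynomial.mem_homogeneousSubmodule 0 _).mpr (MvPolynomial.isHomogeneous_C _ c)) := by
    apply val_injective
    rw [Away.val_mk]
    show Localization.mk (MvPolynomial.C c) 1 = _
    rw [Localization.mk_eq_mk_iff, Localization.r_iff_exists]
    exact ⟨1, by simp⟩
  rw [h, vecHom, ProjPt.coordHom_mk_eq_iff]
  simp

theorem eval₂_scale (c : B) (v : Fin (m + 1) → B) {d : ℕ} {p : MvPolynomial (Fin (m + 1)) K}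
    (hp : p.IsHomogeneous d) :
    MvPolynomial.eval₂ (algebraMap K B) (fun j => c * v j) p = c ^ d * MvPolynomial.eval₂ (algebraMap K B) v p := by
  rw [MvPolynomial.eval₂_eq, MvPolynomial.eval₂_eq, Finset.mul_sum]
  refine Finset.sum_congr rfl fun e he => ?_
  have h := hp (MvPolynomial.mem_support_iff.1 he)
  rw [Finsupp.weight_apply, Finsupp.sum] at h
  simp only [Pi.one_apply, smul_eq_mul, mul_one] at h
  simp only [mul_pow, Finset.prod_mul_distrib, Finset.prod_pow_eq_pow_sum, h]
  ring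

omit [Algebra K B] in
theorem hom_ext {i : Fin (m + 1)} {g g' : Away 𝒜 (MvPolynomial.X i) →+* B}
    (h0 : ∀ c, g (constHom i c) = g' (constHom i c)) (h : ∀ j, g (coord i j) = g' (coord i j)) : g = g' := by
  refine RingHom.ext fun a => ?_
  obtain ⟨d, p, hp, rfl⟩ := Away.mk_surjective 𝒜 (X_mem i) a
  suffices Away.mk 𝒜 (X_mem i) d p hp = MvPolynomial.eval₂ (constHom i) (coord i) p by
    rw [this, MvPolynomial.hom_eval₂, MvPolynomial.hom_eval₂]
    congr 1
    · exact RingHom.ext h0
    · exact funext h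
  apply val_injective
  let ι := algebraMap (MvPolynomial (Fin (m + 1)) K) (Localization.Away (MvPolynomial.X i : MvPolynomial (Fin (m + 1)) K))
  let V := algebraMap (Away 𝒜 (MvPolynomial.X i)) (Localization.Away (MvPolynomial.X i : MvPolynomial (Fin (m + 1)) K))
  change _ = V (MvPolynomial.eval₂ (constHom i) (coord i) p)
  rw [MvPolynomial.hom_eval₂]
  let : Algebra K (Localization.Away (MvPolynomial.X i : MvPolynomial (Fin (m + 1)) K)) := (V.comp (constHom i)).toAlgebra
  have hc : (⇑V ∘ coord (K := K) i) = fun j : Fin (m + 1) => IsLocalization.Away.invSelf (S := Localization.Away (MvPolynomial.X i : MvPolynomial (Fin (m + 1)) K)) (MvPolynomial.X i : MvPolynomial (Fin (m + 1)) K) * ι (MvPolynomial.X j : MvPolynomial (Fin (m + 1)) K) := by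
    funext j
    simp only [Function.comp_apply, V, coord, HomogeneousLocalization.algebraMap_apply,
      Away.val_mk, Localization.mk_eq_mk', IsLocalization.Away.invSelf, pow_one]
    rw [mul_comm, IsLocalization.mul_mk'_eq_mk'_of_mul, mul_one]
  rw [show (fun l => V (coord i l)) = _ from hc]
  refine Eq.trans ?_ (eval₂_scale _ _ ((MvPolynomial.mem_homogeneousSubmodule _ _).1 hp)).symm
  have hev : MvPolynomial.eval₂ (V.comp (constHom i)) (fun j => ι (MvPolynomial.X j : MvPolynomial (Fin (m + 1)) K)) p = ι p := by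
    have := MvPolynomial.ringHom_ext (f := MvPolynomial.eval₂Hom (V.comp (constHom i)) (fun j => ι (MvPolynomial.X j)))
      (g := ι) (fun r => by
        rw [MvPolynomial.eval₂Hom_C]
        show V (constHom i r) = ι (MvPolynomial.C r)
        show Localization.mk _ _ = _
        rw [← Localization.mk_one_eq_algebraMap]
        rfl)
      (fun j => by rw [MvPolynomial.eval₂Hom_X'])
    exact RingHom.congr_fun this p
  show _ = _ * MvPolynomial.eval₂ (V.comp (constHom i)) (fun j => ι (MvPolynomial.X j)) p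
  rw [hev, Away.val_mk, Localization.mk_eq_mk', IsLocalization.mk'_eq_iff_eq_mul, smul_eq_mul, mul_one]
  show ι p = _ * ι p * ι (MvPolynomial.X i ^ d)
  rw [mul_comm _ (ι p), mul_assoc, map_pow, ← mul_pow, mul_comm _ (ι (MvPolynomial.X i)),
    IsLocalization.Away.mul_invSelf, one_pow, mul_one]

variable (K) in
/-- The point of projective space of a vector with a unit entry. -/
def pt (v : Fin (m + 1) → B) (i : Fin (m + 1)) (hu : IsUnit (v i)) :
    Spec (CommRingCat.of B) ⟶ Proj 𝒜 :=
  Spec.map (CommRingCat.ofHom (vecHom K v i hu)) ≫ Proj.awayι 𝒜 (MvPolynomial.X i) (X_mem i) one_pos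

theorem pt_indep (v : Fin (m + 1) → B) (i j : Fin (m + 1)) (hi : IsUnit (v i)) (hj : IsUnit (v j)) :
    pt K v i hi = pt K v j hj := by
  have hij : IsUnit ((MvPolynomial.eval₂Hom (algebraMap K B) v) (MvPolynomial.X i * MvPolynomial.X j : MvPolynomial (Fin (m + 1)) K)) := by
    rw [map_mul]; exact (eval_X (K := K) v i hi).mul (eval_X (K := K) v j hj)
  have e : ∀ (a b : Fin (m + 1)) (ha : IsUnit (v a))
      (hx : (MvPolynomial.X i * MvPolynomial.X j : MvPolynomial (Fin (m + 1)) K) = MvPolynomial.X a * MvPolynomial.X b),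
      pt K v a ha = Spec.map (CommRingCat.ofHom (ProjPt.coordHom 𝒜 (MvPolynomial.eval₂Hom (algebraMap K B) v) hij)) ≫
        Proj.awayι 𝒜 (MvPolynomial.X i * MvPolynomial.X j) (SetLike.mul_mem_graded (X_mem i) (X_mem j))
          (Nat.add_pos_left one_pos 1) := by
    intro a b ha hx
    rw [pt, vecHom, ← Proj.SpecMap_awayMap_awayι 𝒜 (X_mem a) one_pos (X_mem b) hx, ← Spec.map_comp_assoc,
      ← CommRingCat.ofHom_comp, ProjPt.coordHom_awayMap 𝒜 _ (X_mem a) (X_mem b) hx (eval_X (K := K) v a ha) hij]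
  rw [e i j hi rfl, e j i hj (mul_comm _ _)]

theorem pt_smul (v : Fin (m + 1) → B) (c : B) (i : Fin (m + 1)) (hu : IsUnit (v i)) (hu' : IsUnit ((c • v) i)) :
    pt K (c • v) i hu' = pt K v i hu := by
  rw [pt, pt, vecHom, vecHom, ProjPt.coordHom_scale 𝒜 (MvPolynomial.eval₂Hom (algebraMap K B) v)
    (MvPolynomial.eval₂Hom (algebraMap K B) (c • v)) (X_mem i) c ?_ (eval_X (K := K) v i hu) (eval_X (K := K) _ i hu')]
  intro d a ha
  exact eval₂_scale c v ((MvPolynomial.mem_homogeneousSubmodule _ _).1 ha)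

theorem isUnit_of_rel {v v' : Fin (m + 1) → B} {i j : Fin (m + 1)} (hi : IsUnit (v i)) (hj : IsUnit (v' j))
    (h : SBAut.Rel v v') : IsUnit (v' i) := by
  have h1 : IsUnit (v j * v' i) := h i j ▸ hi.mul hj
  exact isUnit_of_mul_isUnit_right h1

theorem pt_congr_rel {v v' : Fin (m + 1) → B} {i j : Fin (m + 1)} (hi : IsUnit (v i)) (hj : IsUnit (v' j))
    (h : SBAut.Rel v v') : pt K v i hi = pt K v' j hj := by
  have hu := isUnit_of_rel hi hj h
  rw [pt_indep v' j i hj hu]
  obtain ⟨a, ha⟩ := hi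
  have hv : v' = (v' i * ((a⁻¹ : Bˣ) : B)) • v := by
    funext l
    rw [Pi.smul_apply, smul_eq_mul]
    have := h i l
    rw [← ha] at this
    calc v' l = ((a⁻¹ : Bˣ) : B) * (a * v' l) := by rw [← mul_assoc, Units.inv_mul, one_mul]
      _ = _ := by rw [this]; ring
  have key : ∀ (w : Fin (m + 1) → B) (e : w = (v' i * ((a⁻¹ : Bˣ) : B)) • v) (hw : IsUnit (w i)),
      pt K v i ⟨a, ha⟩ = pt K w i hw := by
    rintro w rfl hw
    exact (pt_smul v _ i _ hw).symm
  exact key v' hv hu

theorem vecHom_comp {C : Type u} [CommRing C] [Algebra K C] (φ : B →ₐ[K] C) (v : Fin (m + 1) → B)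
    (i : Fin (m + 1)) (hu : IsUnit (v i)) :
    (φ : B →+* C).comp (vecHom K v i hu) = vecHom K (φ ∘ v) i (hu.map φ) := by
  refine hom_ext (fun c => ?_) (fun j => ?_)
  · rw [RingHom.comp_apply, vecHom_const, vecHom_const]; exact φ.commutes c
  · refine (hu.map φ).mul_left_injective ?_
    simp only [RingHom.comp_apply]
    show φ _ * φ (v i) = vecHom K (φ ∘ v) i (hu.map φ) (coord i j) * (φ ∘ v) i
    rw [vecHom_coord]
    show φ _ * φ (v i) = φ (v j)
    rw [← map_mul, vecHom_coord]

theorem comp_pt {C : Type u} [CommRing C] [Algebra K C] (φ : B →ₐ[K] C) (v : Fin (m + 1) → B)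
    (i : Fin (m + 1)) (hu : IsUnit (v i)) :
    Spec.map (CommRingCat.ofHom (φ : B →+* C)) ≫ pt K v i hu = pt K (φ ∘ v) i (hu.map φ) := by
  rw [pt, pt, ← Spec.map_comp_assoc, ← CommRingCat.ofHom_comp, vecHom_comp]

theorem awayι_toSpec (i : Fin (m + 1)) :
    Proj.awayι 𝒜 (MvPolynomial.X i) (X_mem i) one_pos ≫ CohB1.ProjSpace.toSpec m K =
      Spec.map (CommRingCat.ofHom (constHom i)) := by
  rw [CohB1.ProjSpace.toSpec]
  erw [Proj.awayι_toSpecZero_assoc]
  rw [← Spec.map_comp]
  rfl

theorem pt_toSpec (v : Fin (m + 1) → B) (i : Fin (m + 1)) (hu : IsUnit (v i)) :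
    pt K v i hu ≫ CohB1.ProjSpace.toSpec m K = Spec.map (CommRingCat.ofHom (algebraMap K B)) := by
  refine ((congrArg (fun z => Spec.map (CommRingCat.ofHom (vecHom K v i hu)) ≫ z) (awayι_toSpec i)) |>
    (Category.assoc _ _ _).trans).trans ?_
  rw [← Spec.map_comp]
  congr 1
  ext c
  exact vecHom_const v i hu c

theorem exists_mem_basicOpen (x : Proj 𝒜) :
    ∃ i : Fin (m + 1), x ∈ Proj.basicOpen 𝒜 (MvPolynomial.X i) := by
  by_contra h
  push Not at h
  have hx : ∀ i, (MvPolynomial.X i : MvPolynomial (Fin (m + 1)) K) ∈ x.asHomogeneousIdeal.toIdeal := fun i => by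
    have := h i
    rw [Proj.mem_basicOpen] at this
    exact not_not.mp this
  refine x.not_irrelevant_le fun a ha => ?_
  rw [HomogeneousIdeal.mem_irrelevant_iff] at ha
  have ha' : MvPolynomial.coeff 0 a = 0 := by
    have h2 : MvPolynomial.homogeneousComponent 0 a = 0 := by
      rw [← MvPolynomial.decomposition.decompose'_apply a 0]
      exact ha
    rw [MvPolynomial.homogeneousComponent_zero] at h2
    exact MvPolynomial.C_eq_zero.mp h2
  rw [MvPolynomial.as_sum a]
  refine Ideal.sum_mem _ fun d hd => ?_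
  have hd0 : d ≠ 0 := fun e => MvPolynomial.mem_support_iff.1 hd (e ▸ ha')
  obtain ⟨i, hi⟩ := Finsupp.ne_iff.mp hd0
  rw [MvPolynomial.monomial_eq, Finsupp.prod]
  exact Ideal.mul_mem_left _ _ (Ideal.prod_mem _ (i := i) (Finsupp.mem_support_iff.mpr hi)
    (Ideal.pow_mem_of_mem _ (hx i) _ (Nat.pos_of_ne_zero hi)))

theorem exists_pt [IsLocalRing B] (g : Spec (CommRingCat.of B) ⟶ CohB1.ProjSpace m K)
    (hg : g ≫ CohB1.ProjSpace.toSpec m K = Spec.map (CommRingCat.ofHom (algebraMap K B))) :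
    ∃ (v : Fin (m + 1) → B) (i : Fin (m + 1)) (hu : IsUnit (v i)), g = pt K v i hu := by
  obtain ⟨i, hi⟩ := exists_mem_basicOpen (g (IsLocalRing.closedPoint B))
  let j := Proj.awayι 𝒜 (MvPolynomial.X i) (X_mem i) one_pos
  have hr : Set.range g ⊆ Set.range j := by
    have h1 : (g ⁻¹ᵁ Proj.basicOpen 𝒜 (MvPolynomial.X i)) = ⊤ :=
      (IsLocalRing.closed_point_mem_iff (U := g ⁻¹ᵁ Proj.basicOpen 𝒜 (MvPolynomial.X i))).mp hi
    rintro _ ⟨y, rfl⟩
    have h2 : y ∈ g ⁻¹ᵁ Proj.basicOpen 𝒜 (MvPolynomial.X i) := h1.symm ▸ trivial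
    rw [← Proj.opensRange_awayι 𝒜 _ (X_mem i) one_pos] at h2
    exact h2
  obtain ⟨φ, hφ⟩ := Spec.map_surjective (IsOpenImmersion.lift j g hr)
  have hg' : g = Spec.map φ ≫ j :=
    (((congrArg (fun z => z ≫ j) hφ).trans (IsOpenImmersion.lift_fac j g hr))).symm
  let v : Fin (m + 1) → B := fun l => φ.hom (coord i l)
  have h1 : coord (K := K) i i = 1 := by
    apply val_injective
    rw [coord, Away.val_mk, val_one, Localization.mk_eq_mk']
    simp
  have hu : IsUnit (v i) := by simp [v, h1]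
  refine ⟨v, i, hu, ?_⟩
  rw [hg', pt]
  congr 2
  apply CommRingCat.hom_ext
  refine (hom_ext (fun c => ?_) (fun l => ?_)).symm
  · simp only [CommRingCat.hom_ofHom]
    rw [vecHom_const]
    rw [hg'] at hg
    have hg2 := (congrArg (fun z => Spec.map φ ≫ z) (awayι_toSpec (K := K) i)).symm.trans
      ((Category.assoc _ _ _).symm.trans hg)
    rw [← Spec.map_comp] at hg2
    exact (RingHom.congr_fun (congrArg CommRingCat.Hom.hom (Spec.map_injective hg2)) c).symm
  · have := vecHom_coord (K := K) v i hu l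
    simp only [CommRingCat.hom_ofHom]
    have hvi : v i = 1 := by simp [v, h1]
    rw [hvi, mul_one] at this
    exact this

end Vec

end Groth.Agent.SBSplit
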